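/-
helper61 (project REEX, for S3626): affine permutations `v ↦ A v + w` of a module `V`, with linear part in a group `Γ` of
linear automorphisms: the definitions and the group structure. (The element orders are module REEX-[X-AFF].)
-/
import Mathlib

set_option autoImplicit false

namespace Cfsg.Agent.Lib.Helper61.ReeX

variable {R : Type*} [Ring R] {V : Type*} [AddCommGroup V] [Module R V]

/-- the affine permutation `v ↦ A v + w` -/
def aff (A : V ≃ₗ[R] V) (w : V) : Equiv.Perm V where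
  toFun v := A v + w
  invFun v := A.symm (v - w)
  left_inv v := by simp
  right_inv v := by simp

theorem aff_apply (A : V ≃ₗ[R] V) (w v : V) : aff A w v = A v + w := rfl

theorem aff_mul (A B : V ≃ₗ[R] V) (w w' : V) : aff A w * aff B w' = aff (A * B) (A w' + w) := by
  ext v
  simp [aff_apply, Equiv.Perm.mul_apply, LinearEquiv.mul_apply, add_assoc]

theorem aff_one : aff (1 : V ≃ₗ[R] V) (0 : V) = 1 := by
  ext v
  simp [aff_apply]

theorem aff_inv (A : V ≃ₗ[R] V) (w : V) : (aff A w)⁻¹ = aff A⁻¹ (-(A⁻¹ w)) := by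
  rw [inv_eq_iff_mul_eq_one, aff_mul, mul_inv_cancel]
  have h1 : A (A⁻¹ w) = w := by
    rw [← LinearEquiv.mul_apply, mul_inv_cancel]
    rfl
  have h2 : A (-(A⁻¹ w)) + w = 0 := by rw [map_neg, h1, neg_add_cancel]
  rw [h2, aff_one]

/-- the group of the affine permutations with linear part in `Γ` -/
def affSubgroup (Γ : Subgroup (V ≃ₗ[R] V)) : Subgroup (Equiv.Perm V) where
  carrier := {π | ∃ A ∈ Γ, ∃ w : V, π = aff A w}
  mul_mem' := by
    rintro _ _ ⟨A, hA, w, rfl⟩ ⟨B, hB, w', rfl⟩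
    exact ⟨A * B, Γ.mul_mem hA hB, A w' + w, aff_mul A B w w'⟩
  one_mem' := ⟨1, Γ.one_mem, 0, aff_one.symm⟩
  inv_mem' := by
    rintro _ ⟨A, hA, w, rfl⟩
    exact ⟨A⁻¹, Γ.inv_mem hA, -(A⁻¹ w), aff_inv A w⟩

theorem mem_affSubgroup (Γ : Subgroup (V ≃ₗ[R] V)) (π : Equiv.Perm V) :
    π ∈ affSubgroup Γ ↔ ∃ A ∈ Γ, ∃ w : V, π = aff A w := Iff.rfl

end Cfsg.Agent.Lib.Helper61.ReeX
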