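/-
helper61 (project REEX, for S3626): the action `ρ(g) M = g M (g^σ)ᵀ` (`σ` the Frobenius `x ↦ x³`) of `SL₂(K)`, `char K = 3`,
on `V = (M₂(K))^j`, and the group `Γ = ± ρ(SL₂(K))`.
-/
import Mathlib
import Cfsg.Agent.Lib.Helper61.ReeX.Aff

set_option autoImplicit false

namespace Cfsg.Agent.Lib.Helper61.ReeX

open Matrix

variable {K : Type*} [Field K] [CharP K 3]

/-- the twist `x ↦ (x^σ)ᵀ` -/
def tw (x : Matrix (Fin 2) (Fin 2) K) : Matrix (Fin 2) (Fin 2) K := (x.map (fun a => a ^ 3))ᵀ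

theorem tw_mul (x y : Matrix (Fin 2) (Fin 2) K) : tw (x * y) = tw y * tw x := by
  unfold tw
  have := Matrix.map_mul (L := x) (M := y) (f := frobenius K 3)
  have h : (x * y).map (fun a => a ^ 3) = x.map (fun a => a ^ 3) * y.map (fun a => a ^ 3) := this
  rw [h, Matrix.transpose_mul]

theorem tw_one : tw (1 : Matrix (Fin 2) (Fin 2) K) = 1 := by
  unfold tw
  have := Matrix.map_one (frobenius K 3) (map_zero _) (map_one _) (n := Fin 2)
  have h : (1 : Matrix (Fin 2) (Fin 2) K).map (fun a => a ^ 3) = 1 := this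
  rw [h, Matrix.transpose_one]

theorem tw_neg_one : tw (-1 : Matrix (Fin 2) (Fin 2) K) = -1 := by
  unfold tw
  ext i j
  fin_cases i <;> fin_cases j <;> simp [Matrix.map_apply, Matrix.transpose_apply, Odd.neg_pow (by decide : Odd 3)]

theorem tw_apply (x : Matrix (Fin 2) (Fin 2) K) (i j : Fin 2) : tw x i j = x j i ^ 3 := rfl

/-- the linear map `f ↦ (x (f i) (tw x))_i` -/
def rhoLin (j : ℕ) (x : Matrix (Fin 2) (Fin 2) K) :
    (Fin j → Matrix (Fin 2) (Fin 2) K) →ₗ[K] (Fin j → Matrix (Fin 2) (Fin 2) K) where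
  toFun f := fun i => x * f i * tw x
  map_add' f f' := by
    funext i
    simp [Matrix.mul_add, Matrix.add_mul]
  map_smul' c f := by
    funext i
    simp [Matrix.mul_smul, Matrix.smul_mul]

theorem rhoLin_apply (j : ℕ) (x : Matrix (Fin 2) (Fin 2) K) (f : Fin j → Matrix (Fin 2) (Fin 2) K) (i : Fin j) :
    rhoLin j x f i = x * f i * tw x := rfl

theorem rhoLin_mul (j : ℕ) (x y : Matrix (Fin 2) (Fin 2) K) :
    rhoLin j (x * y) = (rhoLin j x).comp (rhoLin j y) := by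
  apply LinearMap.ext
  intro f
  funext i
  simp only [LinearMap.comp_apply, rhoLin_apply, tw_mul]
  simp only [Matrix.mul_assoc]

theorem rhoLin_one (j : ℕ) : rhoLin j (1 : Matrix (Fin 2) (Fin 2) K) = LinearMap.id := by
  apply LinearMap.ext
  intro f
  funext i
  simp [rhoLin_apply, tw_one]

theorem rhoLin_neg_one (j : ℕ) : rhoLin j (-1 : Matrix (Fin 2) (Fin 2) K) = LinearMap.id := by
  apply LinearMap.ext
  intro f
  funext i
  simp [rhoLin_apply, tw_neg_one]

/-- `ρ` as a homomorphism into the linear automorphisms -/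
noncomputable def rho (K : Type*) [Field K] [CharP K 3] (j : ℕ) :
    Matrix.SpecialLinearGroup (Fin 2) K →* ((Fin j → Matrix (Fin 2) (Fin 2) K) ≃ₗ[K] (Fin j → Matrix (Fin 2) (Fin 2) K)) where
  toFun g := LinearEquiv.ofLinear (rhoLin j (g : Matrix (Fin 2) (Fin 2) K))
    (rhoLin j ((g⁻¹ : Matrix.SpecialLinearGroup (Fin 2) K) : Matrix (Fin 2) (Fin 2) K))
    (by
      rw [← rhoLin_mul, ← Matrix.SpecialLinearGroup.coe_mul, mul_inv_cancel, Matrix.SpecialLinearGroup.coe_one,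
        rhoLin_one])
    (by
      rw [← rhoLin_mul, ← Matrix.SpecialLinearGroup.coe_mul, inv_mul_cancel, Matrix.SpecialLinearGroup.coe_one,
        rhoLin_one])
  map_one' := by
    apply LinearEquiv.ext
    intro f
    show rhoLin j ((1 : Matrix.SpecialLinearGroup (Fin 2) K) : Matrix (Fin 2) (Fin 2) K) f = f
    rw [Matrix.SpecialLinearGroup.coe_one, rhoLin_one]
    rfl
  map_mul' g h := by
    apply LinearEquiv.ext
    intro f
    show rhoLin j ((g * h : Matrix.SpecialLinearGroup (Fin 2) K) : Matrix (Fin 2) (Fin 2) K) f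
      = rhoLin j (g : Matrix (Fin 2) (Fin 2) K) (rhoLin j (h : Matrix (Fin 2) (Fin 2) K) f)
    rw [Matrix.SpecialLinearGroup.coe_mul, rhoLin_mul]
    rfl

theorem rho_apply (j : ℕ) (g : Matrix.SpecialLinearGroup (Fin 2) K) (f : Fin j → Matrix (Fin 2) (Fin 2) K)
    (i : Fin j) :
    rho K j g f i = (g : Matrix (Fin 2) (Fin 2) K) * f i * tw (g : Matrix (Fin 2) (Fin 2) K) := rfl

/-- `ρ(g)` only depends on the matrix of `g` up to sign. -/
theorem rho_eq_one_of_coe (j : ℕ) (g : Matrix.SpecialLinearGroup (Fin 2) K)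
    (hg : (g : Matrix (Fin 2) (Fin 2) K) = 1 ∨ (g : Matrix (Fin 2) (Fin 2) K) = -1) : rho K j g = 1 := by
  apply LinearEquiv.ext
  intro f
  funext i
  rw [rho_apply]
  rcases hg with h | h
  · rw [h, tw_one]; simp
  · rw [h, tw_neg_one]; simp

/-- `-1` on `V` -/
noncomputable def negV (K : Type*) [Field K] [CharP K 3] (j : ℕ) :
    (Fin j → Matrix (Fin 2) (Fin 2) K) ≃ₗ[K] (Fin j → Matrix (Fin 2) (Fin 2) K) := LinearEquiv.neg K

theorem negV_apply (j : ℕ) (f : Fin j → Matrix (Fin 2) (Fin 2) K) : negV K j f = -f := rfl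

theorem negV_mul_self (j : ℕ) : negV K j * negV K j = 1 := by
  apply LinearEquiv.ext
  intro f
  rw [LinearEquiv.mul_apply, negV_apply, negV_apply, neg_neg]
  rfl

theorem negV_comm (j : ℕ) (A : (Fin j → Matrix (Fin 2) (Fin 2) K) ≃ₗ[K] (Fin j → Matrix (Fin 2) (Fin 2) K)) :
    negV K j * A = A * negV K j := by
  apply LinearEquiv.ext
  intro f
  rw [LinearEquiv.mul_apply, LinearEquiv.mul_apply, negV_apply, negV_apply, map_neg]

theorem negV_pow_even (j : ℕ) (n : ℕ) (hn : Even n) : negV K j ^ n = 1 := by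
  obtain ⟨k, rfl⟩ := hn
  rw [← two_mul, pow_mul, pow_two, negV_mul_self, one_pow]

/-- `Γ = ± ρ(SL₂(K))` -/
noncomputable def Gam (K : Type*) [Field K] [CharP K 3] (j : ℕ) :
    Subgroup ((Fin j → Matrix (Fin 2) (Fin 2) K) ≃ₗ[K] (Fin j → Matrix (Fin 2) (Fin 2) K)) where
  carrier := {A | ∃ g : Matrix.SpecialLinearGroup (Fin 2) K, A = rho K j g ∨ A = negV K j * rho K j g}
  mul_mem' := by
    rintro _ _ ⟨g, rfl | rfl⟩ ⟨h, rfl | rfl⟩
    · exact ⟨g * h, Or.inl (map_mul _ _ _).symm⟩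
    · refine ⟨g * h, Or.inr ?_⟩
      rw [map_mul, ← mul_assoc, ← negV_comm, mul_assoc]
    · refine ⟨g * h, Or.inr ?_⟩
      rw [map_mul, mul_assoc]
    · refine ⟨g * h, Or.inl ?_⟩
      rw [map_mul, mul_assoc, ← mul_assoc (rho K j g), ← negV_comm, mul_assoc, ← mul_assoc, negV_mul_self, one_mul]
  one_mem' := ⟨1, Or.inl (map_one _).symm⟩
  inv_mem' := by
    rintro _ ⟨g, rfl | rfl⟩
    · exact ⟨g⁻¹, Or.inl (map_inv _ _).symm⟩
    · refine ⟨g⁻¹, Or.inr ?_⟩
      have hinv : (negV K j)⁻¹ = negV K j := inv_eq_of_mul_eq_one_left (negV_mul_self j)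
      rw [map_inv, _root_.mul_inv_rev, hinv, negV_comm]

theorem mem_Gam (j : ℕ) (A : (Fin j → Matrix (Fin 2) (Fin 2) K) ≃ₗ[K] (Fin j → Matrix (Fin 2) (Fin 2) K)) :
    A ∈ Gam K j ↔ ∃ g : Matrix.SpecialLinearGroup (Fin 2) K, A = rho K j g ∨ A = negV K j * rho K j g := Iff.rfl

end Cfsg.Agent.Lib.Helper61.ReeX
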