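/-
helper61 (project REEX, for S3626): the elements of `Γ = ± ρ(SL₂(K))`: the three cases (fixed-point-free of order dividing
`q - 1` or `(q + 1)/2`; cube `± 1`; square `1`).
-/
import Mathlib
import Cfsg.Agent.Lib.Helper61.ReeX.Rho
import Cfsg.Agent.Lib.Helper31.ReeXAff
import Cfsg.Agent.Lib.Helper31.ReeXFpf
import Cfsg.Agent.Lib.Helper66.ReeXSL2Ord

set_option autoImplicit false
set_option linter.unusedSectionVars false

namespace Cfsg.Agent.Lib.Helper61.ReeX

open Matrix Cfsg.Agent.Lib.Helper31.ReeX Cfsg.Agent.Lib.Helper66.ReeX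

variable {K : Type*} [Field K] [CharP K 3]

/-! ### `2 × 2` matrices of determinant `1` -/

theorem sl2_det (g : Matrix.SpecialLinearGroup (Fin 2) K) :
    (g : Matrix (Fin 2) (Fin 2) K) 0 0 * (g : Matrix (Fin 2) (Fin 2) K) 1 1
      - (g : Matrix (Fin 2) (Fin 2) K) 0 1 * (g : Matrix (Fin 2) (Fin 2) K) 1 0 = 1 := by
  have := g.2
  rw [Matrix.det_fin_two] at this
  exact this

/-- Cayley–Hamilton. -/
theorem sl2_sq (g : Matrix.SpecialLinearGroup (Fin 2) K) :
    (g : Matrix (Fin 2) (Fin 2) K) * (g : Matrix (Fin 2) (Fin 2) K)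
      = Matrix.trace (g : Matrix (Fin 2) (Fin 2) K) • (g : Matrix (Fin 2) (Fin 2) K) - 1 := by
  have hd := sl2_det g
  ext i j
  fin_cases i <;> fin_cases j <;>
    simp [Matrix.mul_apply, Fin.sum_univ_two, Matrix.trace_fin_two] <;>
    first | linear_combination -hd | linear_combination hd | ring

theorem three_eq_zero : (3 : K) = 0 := by
  have := CharP.cast_eq_zero K 3
  exact_mod_cast this

theorem sl2_cube_of_trace_neg_one (g : Matrix.SpecialLinearGroup (Fin 2) K)
    (h : Matrix.trace (g : Matrix (Fin 2) (Fin 2) K) = -1) : (g : Matrix (Fin 2) (Fin 2) K) ^ 3 = 1 := by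
  have h2 := sl2_sq g
  rw [h] at h2
  rw [pow_succ, pow_two, h2]
  rw [Matrix.sub_mul, Matrix.smul_mul, h2]
  simp only [neg_smul, one_smul, Matrix.one_mul]
  abel

theorem sl2_cube_of_trace_one (g : Matrix.SpecialLinearGroup (Fin 2) K)
    (h : Matrix.trace (g : Matrix (Fin 2) (Fin 2) K) = 1) : (g : Matrix (Fin 2) (Fin 2) K) ^ 3 = -1 := by
  have h2 := sl2_sq g
  rw [h] at h2
  rw [pow_succ, pow_two, h2]
  rw [Matrix.sub_mul, Matrix.smul_mul, h2]
  simp only [one_smul, Matrix.one_mul]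
  abel

theorem sl2_sq_of_trace_zero (g : Matrix.SpecialLinearGroup (Fin 2) K)
    (h : Matrix.trace (g : Matrix (Fin 2) (Fin 2) K) = 0) : (g : Matrix (Fin 2) (Fin 2) K) ^ 2 = -1 := by
  have h2 := sl2_sq g
  rw [h] at h2
  rw [pow_two, h2]
  simp

theorem trace_cases (t : K) (h : t ^ 3 = t) : t = 0 ∨ t = 1 ∨ t = -1 := by
  have h1 : t * ((t - 1) * (t + 1)) = 0 := by linear_combination h
  rcases mul_eq_zero.mp h1 with h0 | h0
  · exact Or.inl h0
  rcases mul_eq_zero.mp h0 with h0 | h0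
  · exact Or.inr (Or.inl (by linear_combination h0))
  · exact Or.inr (Or.inr (by linear_combination h0))

/-! ### Powers of `ρ(g)` -/

theorem rho_pow_eq_one (j : ℕ) (g : Matrix.SpecialLinearGroup (Fin 2) K) (n : ℕ)
    (h : (g : Matrix (Fin 2) (Fin 2) K) ^ n = 1 ∨ (g : Matrix (Fin 2) (Fin 2) K) ^ n = -1) :
    rho K j g ^ n = 1 := by
  rw [← map_pow]
  apply rho_eq_one_of_coe
  rw [Matrix.SpecialLinearGroup.coe_pow]
  exact h

theorem neg_rho_pow (j : ℕ) (g : Matrix.SpecialLinearGroup (Fin 2) K) (n : ℕ) :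
    (negV K j * rho K j g) ^ n = negV K j ^ n * rho K j g ^ n :=
  Commute.mul_pow (negV_comm j _) n

/-- `Σ_{i<6} (-B)^i = 0` if `B³ = 1`. -/
theorem sum_six (j : ℕ) (B : (Fin j → Matrix (Fin 2) (Fin 2) K) ≃ₗ[K] (Fin j → Matrix (Fin 2) (Fin 2) K))
    (hB : B ^ 3 = 1) (v : Fin j → Matrix (Fin 2) (Fin 2) K) :
    ∑ i ∈ Finset.range 6, ((negV K j * B) ^ i) v = 0 := by
  have hc : ∀ n : ℕ, (negV K j * B) ^ n = negV K j ^ n * B ^ n := fun n => Commute.mul_pow (negV_comm j _) n
  have hn2 : negV K j ^ 2 = 1 := negV_pow_even j 2 (by decide)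
  have hn3 : negV K j ^ 3 = negV K j := by rw [pow_succ, hn2, one_mul]
  have hn4 : negV K j ^ 4 = 1 := negV_pow_even j 4 (by decide)
  have hn5 : negV K j ^ 5 = negV K j := by rw [pow_succ, hn4, one_mul]
  have hB4 : B ^ 4 = B := by rw [pow_succ, hB, one_mul]
  have hB5 : B ^ 5 = B ^ 2 := by rw [show 5 = 3 + 2 from rfl, pow_add, hB, one_mul]
  simp only [Finset.sum_range_succ, Finset.sum_range_zero, zero_add]
  rw [hc 2, hc 3, hc 4, hc 5, hn2, hn3, hn4, hn5, hB, hB4, hB5, pow_zero, pow_one]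
  simp only [one_mul, mul_one, LinearEquiv.mul_apply, negV_apply]
  have e1 : (1 : (Fin j → Matrix (Fin 2) (Fin 2) K) ≃ₗ[K] (Fin j → Matrix (Fin 2) (Fin 2) K)) v = v := rfl
  rw [e1]
  abel

/-! ### The cases -/

/-- the target set of orders -/
def OmX (q : ℕ) : Set ℕ := {n | n ∣ 9 ∨ n ∣ 6 ∨ n ∣ q - 1 ∨ n ∣ (q + 1) / 2}

theorem OmX_div (q : ℕ) : ∀ n ∈ OmX q, ∀ d : ℕ, d ∣ n → d ∈ OmX q := by
  rintro n (h | h | h | h) d hd
  · exact Or.inl (hd.trans h)
  · exact Or.inr (Or.inl (hd.trans h))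
  · exact Or.inr (Or.inr (Or.inl (hd.trans h)))
  · exact Or.inr (Or.inr (Or.inr (hd.trans h)))

theorem two_ne_zero' : (2 : K) ≠ 0 := by
  intro h
  have h3 := three_eq_zero (K := K)
  have : (1 : K) = 0 := by linear_combination h3 - h
  exact one_ne_zero this

theorem four_eq_one : (4 : K) = 1 := by
  have h3 := three_eq_zero (K := K)
  linear_combination h3

variable [Fintype K]

theorem Gam_cases (hK : ∀ x : K, x ^ 2 ≠ -1) (hq : Fintype.card K % 4 = 3) (j : ℕ) :
    ∀ A ∈ Gam K j, ((∀ v : Fin j → Matrix (Fin 2) (Fin 2) K, A v = v → v = 0) ∧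
        orderOf A ∈ OmX (Fintype.card K)) ∨
      (∃ n : ℕ, 3 * n ∈ OmX (Fintype.card K) ∧ A ^ n = 1) ∨
      (∃ n ∈ OmX (Fintype.card K), A ^ n = 1 ∧
        ∀ v : Fin j → Matrix (Fin 2) (Fin 2) K, ∑ i ∈ Finset.range n, (A ^ i) v = 0) := by
  have h9 : (9 : ℕ) ∈ OmX (Fintype.card K) := Or.inl dvd_rfl
  have h6 : (6 : ℕ) ∈ OmX (Fintype.card K) := Or.inr (Or.inl dvd_rfl)
  have hev1 : Even (Fintype.card K - 1) := by rw [Nat.even_iff]; omega
  have hev2 : Even ((Fintype.card K + 1) / 2) := by rw [Nat.even_iff]; omega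
  rintro A ⟨g, hA⟩
  by_cases hτ : Matrix.trace (g : Matrix (Fin 2) (Fin 2) K) ^ 3 = Matrix.trace (g : Matrix (Fin 2) (Fin 2) K)
  · right
    rcases trace_cases _ hτ with h0 | h1 | h1
    · -- `g² = -1`
      left
      refine ⟨2, h6, ?_⟩
      have hB : rho K j g ^ 2 = 1 := rho_pow_eq_one j g 2 (Or.inr (sl2_sq_of_trace_zero g h0))
      rcases hA with rfl | rfl
      · exact hB
      · rw [neg_rho_pow, hB, negV_pow_even j 2 (by decide), one_mul]
    · -- `g³ = -1`
      have hB : rho K j g ^ 3 = 1 := rho_pow_eq_one j g 3 (Or.inr (sl2_cube_of_trace_one g h1))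
      rcases hA with rfl | rfl
      · exact Or.inl ⟨3, h9, hB⟩
      · right
        refine ⟨6, h6, ?_, ?_⟩
        · rw [neg_rho_pow, negV_pow_even j 6 (by decide), one_mul, show 6 = 3 * 2 from rfl, pow_mul, hB, one_pow]
        · intro v
          exact sum_six j (rho K j g) hB v
    · have hB : rho K j g ^ 3 = 1 := rho_pow_eq_one j g 3 (Or.inl (sl2_cube_of_trace_neg_one g h1))
      rcases hA with rfl | rfl
      · exact Or.inl ⟨3, h9, hB⟩
      · right
        refine ⟨6, h6, ?_, ?_⟩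
        · rw [neg_rho_pow, negV_pow_even j 6 (by decide), one_mul, show 6 = 3 * 2 from rfl, pow_mul, hB, one_pow]
        · intro v
          exact sum_six j (rho K j g) hB v
  · left
    have hfpf := fun M => fpf_twisted hK g hτ M
    have hτ2 : Matrix.trace (g : Matrix (Fin 2) (Fin 2) K) ^ 2 ≠ 4 := by
      intro h
      apply hτ
      rw [four_eq_one] at h
      rw [pow_succ, h, one_mul]
    -- a power of `ρ(g)` is `1`
    have hpow : rho K j g ^ (Fintype.card K - 1) = 1 ∨ rho K j g ^ ((Fintype.card K + 1) / 2) = 1 := by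
      rcases sl2_pow_cases two_ne_zero' g hτ2 with h | h | h
      · exact Or.inl (rho_pow_eq_one j g _ (Or.inl h))
      · exact Or.inr (rho_pow_eq_one j g _ (Or.inl h))
      · exact Or.inr (rho_pow_eq_one j g _ (Or.inr h))
    have hApow : A ^ (Fintype.card K - 1) = 1 ∨ A ^ ((Fintype.card K + 1) / 2) = 1 := by
      rcases hA with rfl | rfl
      · exact hpow
      · rcases hpow with h | h
        · left; rw [neg_rho_pow, h, negV_pow_even j _ hev1, one_mul]
        · right; rw [neg_rho_pow, h, negV_pow_even j _ hev2, one_mul]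
    refine ⟨?_, ?_⟩
    · intro v hv
      funext i
      rcases hA with rfl | rfl
      · have := congrFun hv i
        rw [rho_apply] at this
        exact (hfpf (v i)).1 this
      · have := congrFun hv i
        rw [LinearEquiv.mul_apply, negV_apply, Pi.neg_apply, rho_apply] at this
        apply (hfpf (v i)).2
        show (g : Matrix (Fin 2) (Fin 2) K) * v i * tw (g : Matrix (Fin 2) (Fin 2) K) = -v i
        have h' := congrArg Neg.neg this
        rw [neg_neg] at h'
        exact h'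
    · rcases hApow with h | h
      · exact Or.inr (Or.inr (Or.inl (orderOf_dvd_of_pow_eq_one h)))
      · exact Or.inr (Or.inr (Or.inr (orderOf_dvd_of_pow_eq_one h)))

end Cfsg.Agent.Lib.Helper61.ReeX
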