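/-
helper61 (project REEX, for S3626): elements of order `9`, `6`, and of order divisible by `q - 1`, `(q + 1)/2` in the affine
group `X = V : Γ`; the spectrum of `X`.
-/
import Mathlib
import Cfsg.Agent.Lib.Helper61.ReeX.Cases

set_option autoImplicit false
set_option linter.unusedSectionVars false

namespace Cfsg.Agent.Lib.Helper61.ReeX

open Matrix Cfsg.Agent.Lib.Helper31.ReeX Cfsg.Agent.Lib.Helper66.ReeX

variable {K : Type*} [Field K] [CharP K 3]

/-- the linear automorphisms of `V = (M₂(K))^j` -/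
abbrev LJ (K : Type*) [Field K] (j : ℕ) :=
  (Fin j → Matrix (Fin 2) (Fin 2) K) ≃ₗ[K] (Fin j → Matrix (Fin 2) (Fin 2) K)

/-- the entries of `x M (x^σ)ᵀ` -/
theorem tw_mul_entry (x M : Matrix (Fin 2) (Fin 2) K) (a b : Fin 2) :
    (x * M * tw x) a b
      = (x a 0 * M 0 0 + x a 1 * M 1 0) * x b 0 ^ 3 + (x a 0 * M 0 1 + x a 1 * M 1 1) * x b 1 ^ 3 := by
  simp [Matrix.mul_apply, Fin.sum_univ_two, tw_apply]

/-! ### The unipotent element -/

/-- `u = [[1,1],[0,1]]` -/
def uSL (K : Type*) [Field K] : Matrix.SpecialLinearGroup (Fin 2) K :=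
  ⟨!![1, 1; 0, 1], by simp [Matrix.det_fin_two]⟩

theorem uSL_cube : ((uSL K : Matrix.SpecialLinearGroup (Fin 2) K) : Matrix (Fin 2) (Fin 2) K) ^ 3 = 1 := by
  apply sl2_cube_of_trace_neg_one
  have h3 := three_eq_zero (K := K)
  simp only [uSL, Matrix.trace_fin_two]
  simp
  linear_combination h3

/-- the constant family -/
def cst (j : ℕ) (M : Matrix (Fin 2) (Fin 2) K) : Fin j → Matrix (Fin 2) (Fin 2) K := fun _ => M

theorem rho_cst (j : ℕ) (g : Matrix.SpecialLinearGroup (Fin 2) K) (M : Matrix (Fin 2) (Fin 2) K) :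
    rho K j g (cst j M) = cst j ((g : Matrix (Fin 2) (Fin 2) K) * M * tw (g : Matrix (Fin 2) (Fin 2) K)) := rfl

theorem rho_uSL_E22 (j : ℕ) : rho K j (uSL K) (cst j !![0, 0; 0, 1]) = cst j !![1, 1; 1, 1] := by
  rw [rho_cst]
  congr 1
  ext a b
  rw [tw_mul_entry]
  fin_cases a <;> fin_cases b <;> simp [uSL]

theorem rho_uSL_J (j : ℕ) : rho K j (uSL K) (cst j !![1, 1; 1, 1]) = cst j !![1, 2; 2, 1] := by
  have h3 := three_eq_zero (K := K)
  rw [rho_cst]
  congr 1
  ext a b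
  rw [tw_mul_entry]
  fin_cases a <;> fin_cases b <;> simp [uSL] <;> first | ring1 | linear_combination h3 | linear_combination -h3

theorem rho_uSL_E11 (j : ℕ) : rho K j (uSL K) (cst j !![1, 0; 0, 0]) = cst j !![1, 0; 0, 0] := by
  rw [rho_cst]
  congr 1
  ext a b
  rw [tw_mul_entry]
  fin_cases a <;> fin_cases b <;> simp [uSL]

theorem cst_ne (j : ℕ) (hj : 0 < j) (M M' : Matrix (Fin 2) (Fin 2) K) (a b : Fin 2) (h : M a b ≠ M' a b) :
    cst j M ≠ cst j M' := by
  intro h'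
  have := congrFun h' ⟨0, hj⟩
  exact h (by rw [show M = M' from this])

/-- an element of order `9` -/
theorem orderOf_nine (j : ℕ) (hj : 0 < j) :
    orderOf (aff (rho K j (uSL K)) (cst j !![0, 0; 0, 1])) = 9 := by
  have h3 := three_eq_zero (K := K)
  have hB : rho K j (uSL K) ^ 3 = 1 := rho_pow_eq_one j (uSL K) 3 (Or.inl uSL_cube)
  set s : Fin j → Matrix (Fin 2) (Fin 2) K :=
    ∑ i ∈ Finset.range 3, (rho K j (uSL K) ^ i) (cst j !![0, 0; 0, 1]) with hs
  have hs' : s = cst j !![2, 0; 0, 0] := by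
    rw [hs]
    simp only [Finset.sum_range_succ, Finset.sum_range_zero, zero_add, pow_zero, pow_one, pow_two,
      LinearEquiv.mul_apply, rho_uSL_E22, rho_uSL_J]
    have e1 : (1 : (Fin j → Matrix (Fin 2) (Fin 2) K) ≃ₗ[K] (Fin j → Matrix (Fin 2) (Fin 2) K))
        (cst j !![0, 0; 0, 1]) = cst j !![0, 0; 0, 1] := rfl
    rw [e1]
    funext i
    ext a b
    fin_cases a <;> fin_cases b <;> simp [cst] <;> first | ring1 | linear_combination h3 | linear_combination -h3
  have hx3 : aff (rho K j (uSL K)) (cst j !![0, 0; 0, 1]) ^ 3 = aff (1 : LJ K j) s := by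
    rw [aff_pow, hB]
  have h1 : ¬ aff (rho K j (uSL K)) (cst j !![0, 0; 0, 1]) ^ 3 ^ 1 = 1 := by
    rw [pow_one, hx3, aff_eq_one_iff]
    rintro ⟨-, h⟩
    rw [hs'] at h
    have : cst j (!![2, 0; 0, 0] : Matrix (Fin 2) (Fin 2) K) ≠ cst j 0 :=
      cst_ne j hj _ _ 0 0 (by simpa using two_ne_zero' (K := K))
    exact this h
  have h2 : aff (rho K j (uSL K)) (cst j !![0, 0; 0, 1]) ^ 3 ^ (1 + 1) = 1 := by
    rw [show 3 ^ (1 + 1) = 3 * 3 from rfl, pow_mul, hx3, aff_pow, one_pow, aff_eq_one_iff]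
    refine ⟨rfl, ?_⟩
    simp only [Finset.sum_range_succ, Finset.sum_range_zero, zero_add, one_pow]
    have e1 : (1 : (Fin j → Matrix (Fin 2) (Fin 2) K) ≃ₗ[K] (Fin j → Matrix (Fin 2) (Fin 2) K)) s = s := rfl
    rw [e1]
    funext i
    ext a b
    simp only [Pi.add_apply, Matrix.add_apply, Pi.zero_apply, Matrix.zero_apply]
    linear_combination (s i a b) * h3
  haveI : Fact (Nat.Prime 3) := ⟨Nat.prime_three⟩
  have := orderOf_eq_prime_pow h1 h2
  rw [this]
  norm_num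

/-- an element of order `6` -/
theorem orderOf_six (j : ℕ) (hj : 0 < j) : orderOf (negV K j * rho K j (uSL K)) = 6 := by
  have h3 := three_eq_zero (K := K)
  have hB : rho K j (uSL K) ^ 3 = 1 := rho_pow_eq_one j (uSL K) 3 (Or.inl uSL_cube)
  apply orderOf_eq_of_pow_and_pow_div_prime (by norm_num)
  · rw [neg_rho_pow, negV_pow_even j 6 (by decide), one_mul, show 6 = 3 * 2 from rfl, pow_mul, hB, one_pow]
  · intro p hp hpd
    have hp6 : p = 2 ∨ p = 3 := by
      have hle : p ≤ 6 := Nat.le_of_dvd (by norm_num) hpd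
      interval_cases p
      · exact absurd hp (by decide)
      · exact absurd hp (by decide)
      · exact Or.inl rfl
      · exact Or.inr rfl
      · exact absurd hp (by decide)
      · exact absurd hpd (by decide)
      · exact absurd hp (by decide)
    rcases hp6 with rfl | rfl
    · -- the cube is `-1`
      rw [show 6 / 2 = 3 from rfl, neg_rho_pow, hB, mul_one]
      have hn3 : negV K j ^ 3 = negV K j := by
        rw [pow_succ, negV_pow_even j 2 (by decide), one_mul]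
      rw [hn3]
      intro h
      have h1 : negV K j (cst j !![1, 0; 0, 0]) = cst j !![1, 0; 0, 0] := by rw [h]; rfl
      rw [negV_apply] at h1
      have h2 := congrFun h1 ⟨0, hj⟩
      have h4 := congrFun (congrFun h2 0) 0
      simp [cst] at h4
      have : (2 : K) = 0 := by linear_combination -h4
      exact two_ne_zero' this
    · -- the square is `ρ(u)²`
      rw [show 6 / 3 = 2 from rfl, neg_rho_pow, negV_pow_even j 2 (by decide), one_mul]
      intro h
      have h1 : (rho K j (uSL K) ^ 2) (cst j !![0, 0; 0, 1]) = cst j !![0, 0; 0, 1] := by rw [h]; rfl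
      rw [pow_two, LinearEquiv.mul_apply, rho_uSL_E22, rho_uSL_J] at h1
      have h2 := congrFun h1 ⟨0, hj⟩
      have h4 := congrFun (congrFun h2 0) 0
      simp [cst] at h4

/-! ### The split torus -/

/-- `diag(λ, λ⁻¹)` -/
def dSL (l : Kˣ) : Matrix.SpecialLinearGroup (Fin 2) K :=
  ⟨!![(l : K), 0; 0, ((l⁻¹ : Kˣ) : K)], by simp [Matrix.det_fin_two]⟩

theorem rho_dSL_E12 (j : ℕ) (l : Kˣ) :
    rho K j (dSL l) (cst j !![0, 1; 0, 0]) = ((l : K) * ((l⁻¹ : Kˣ) : K) ^ 3) • cst j !![0, 1; 0, 0] := by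
  rw [rho_cst]
  funext i
  ext a b
  rw [Pi.smul_apply, Matrix.smul_apply, smul_eq_mul]
  simp only [cst]
  rw [tw_mul_entry]
  fin_cases a <;> fin_cases b <;> simp [dSL]

/-- powers of an operator on an eigenvector -/
theorem pow_apply_eigen (j : ℕ) (A : LJ K j) (f : Fin j → Matrix (Fin 2) (Fin 2) K) (c : K) (h : A f = c • f)
    (k : ℕ) : (A ^ k) f = c ^ k • f := by
  induction k with
  | zero => simp
  | succ n ih =>
    rw [pow_succ, LinearEquiv.mul_apply, h, map_smul, ih, smul_smul, pow_succ']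

/-- arithmetic in the cyclic group `Kˣ` -/
theorem pow_eq_one_dvd (l : Kˣ) (n : ℕ) (hl : orderOf l = 2 * n) (hn : Odd n) (k : ℕ)
    (h : (-((l : K) * ((l⁻¹ : Kˣ) : K) ^ 3)) ^ k = 1) : 2 * n ∣ k := by
  have hl0 : (l : K) ≠ 0 := l.ne_zero
  have e1 : (l : K) * ((l⁻¹ : Kˣ) : K) ^ 3 = (((l⁻¹) ^ 2 : Kˣ) : K) := by
    rw [Units.val_pow_eq_pow_val, Units.val_inv_eq_inv_val]
    field_simp
  rw [e1] at h
  -- the square
  have h2 : ((l⁻¹) ^ 2 : Kˣ) ^ (2 * k) = 1 := by
    apply Units.ext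
    rw [Units.val_pow_eq_pow_val, Units.val_one, pow_mul']
    have : ((((l⁻¹) ^ 2 : Kˣ) : K) ^ k) ^ 2 = ((-(((l⁻¹) ^ 2 : Kˣ) : K)) ^ k) ^ 2 := by
      rw [neg_pow (((l⁻¹) ^ 2 : Kˣ) : K) k, mul_pow, ← pow_mul (-1 : K) k 2,
        Even.neg_one_pow ⟨k, by ring⟩, one_mul]
    rw [this, h, one_pow]
  have h3 : l ^ (4 * k) = 1 := by
    have : ((l⁻¹) ^ 2 : Kˣ) ^ (2 * k) = (l ^ (4 * k))⁻¹ := by
      rw [← pow_mul, inv_pow]
      congr 2
      ring
    rw [this, inv_eq_one] at h2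
    exact h2
  have hd : 2 * n ∣ 4 * k := hl ▸ orderOf_dvd_of_pow_eq_one h3
  have hnk : n ∣ k := by
    have h1 : n ∣ 2 * k := by
      have : 2 * n ∣ 2 * (2 * k) := by
        have e : 2 * (2 * k) = 4 * k := by ring
        rw [e]; exact hd
      exact (Nat.mul_dvd_mul_iff_left (by norm_num)).mp this
    exact (Nat.Coprime.dvd_of_dvd_mul_left (Nat.coprime_two_right.mpr hn) h1)
  -- `(l⁻¹)^(2k) = 1`
  have h4 : ((((l⁻¹) ^ 2 : Kˣ) : K)) ^ k = 1 := by
    rw [← Units.val_pow_eq_pow_val, ← pow_mul, inv_pow]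
    have : l ^ (2 * k) = 1 := by
      apply orderOf_dvd_iff_pow_eq_one.mp
      rw [hl]
      exact Nat.mul_dvd_mul_left 2 hnk
    rw [this, inv_one, Units.val_one]
  have hev : Even k := by
    by_contra hodd
    rw [Nat.not_even_iff_odd] at hodd
    rw [neg_pow, h4, mul_one, Odd.neg_one_pow hodd] at h
    have : (2 : K) = 0 := by linear_combination -h
    exact two_ne_zero' this
  exact Nat.Coprime.mul_dvd_of_dvd_of_dvd (Nat.coprime_two_left.mpr hn) (even_iff_two_dvd.mp hev) hnk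

/-- an element of order divisible by `q - 1` -/
theorem dvd_orderOf_split [Fintype K] (hq : Fintype.card K % 4 = 3) (j : ℕ) (hj : 0 < j) :
    ∃ l : Kˣ, Fintype.card K - 1 ∣ orderOf (negV K j * rho K j (dSL l)) := by
  obtain ⟨l, hl⟩ := IsCyclic.exists_generator (α := Kˣ)
  have hlo : orderOf l = Fintype.card K - 1 := by
    rw [orderOf_eq_card_of_forall_mem_zpowers hl, Nat.card_units, Nat.card_eq_fintype_card]
  refine ⟨l, ?_⟩
  obtain ⟨n, hn, hnodd⟩ : ∃ n, Fintype.card K - 1 = 2 * n ∧ Odd n :=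
    ⟨(Fintype.card K - 1) / 2, by omega, by rw [Nat.odd_iff]; omega⟩
  rw [hn]
  apply pow_eq_one_dvd l n (by rw [hlo, hn]) hnodd
  set A := negV K j * rho K j (dSL l) with hA
  have heig : A (cst j !![0, 1; 0, 0]) = (-((l : K) * ((l⁻¹ : Kˣ) : K) ^ 3)) • cst j !![0, 1; 0, 0] := by
    rw [hA, LinearEquiv.mul_apply, rho_dSL_E12, negV_apply, neg_smul]
  have hpow := pow_apply_eigen j A _ _ heig (orderOf A)
  rw [pow_orderOf_eq_one] at hpow
  have h1 := congrFun hpow ⟨0, hj⟩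
  have h2 := congrFun (congrFun h1 0) 1
  simp only [cst, Pi.one_apply, Pi.smul_apply, Matrix.smul_apply, smul_eq_mul] at h2
  have h5 : (!![0, 1; 0, 0] : Matrix (Fin 2) (Fin 2) K) 0 1 = 1 := rfl
  rw [h5, mul_one] at h2
  have h6 : ((1 : LJ K j) (cst j (!![0, 1; 0, 0] : Matrix (Fin 2) (Fin 2) K))) ⟨0, hj⟩ 0 1 = 1 := rfl
  rw [h6] at h2
  exact h2.symm

/-! ### The non-split torus -/

/-- the kernel of `ρ` -/
theorem rho_ker (j : ℕ) (hj : 0 < j) (x : Matrix.SpecialLinearGroup (Fin 2) K) (h : rho K j x = 1) :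
    (x : Matrix (Fin 2) (Fin 2) K) = 1 ∨ (x : Matrix (Fin 2) (Fin 2) K) = -1 := by
  have hd := sl2_det x
  have key : ∀ M : Matrix (Fin 2) (Fin 2) K,
      (x : Matrix (Fin 2) (Fin 2) K) * M * tw (x : Matrix (Fin 2) (Fin 2) K) = M := by
    intro M
    have h1 : rho K j x (cst j M) = cst j M := by rw [h]; rfl
    rw [rho_cst] at h1
    exact congrFun h1 ⟨0, hj⟩
  have k11 := key !![1, 0; 0, 0]
  have k22 := key !![0, 0; 0, 1]
  have k12 := key !![0, 1; 0, 0]
  -- `c = 0`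
  have hc : (x : Matrix (Fin 2) (Fin 2) K) 1 0 = 0 := by
    have := congrFun (congrFun k11 1) 1
    rw [tw_mul_entry] at this
    simp at this
    exact this
  have hb : (x : Matrix (Fin 2) (Fin 2) K) 0 1 = 0 := by
    have := congrFun (congrFun k22 0) 0
    rw [tw_mul_entry] at this
    simp at this
    exact this
  have had : (x : Matrix (Fin 2) (Fin 2) K) 0 0 * (x : Matrix (Fin 2) (Fin 2) K) 1 1 = 1 := by
    rw [hc, hb] at hd
    linear_combination hd
  have had3 : (x : Matrix (Fin 2) (Fin 2) K) 0 0 * (x : Matrix (Fin 2) (Fin 2) K) 1 1 ^ 3 = 1 := by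
    have := congrFun (congrFun k12 0) 1
    rw [tw_mul_entry] at this
    simp at this
    exact this
  have hd2 : ((x : Matrix (Fin 2) (Fin 2) K) 1 1 - 1) * ((x : Matrix (Fin 2) (Fin 2) K) 1 1 + 1) = 0 := by
    linear_combination had3 - (x : Matrix (Fin 2) (Fin 2) K) 1 1 ^ 2 * had
  rcases mul_eq_zero.mp hd2 with h1 | h1
  · left
    have hd1 : (x : Matrix (Fin 2) (Fin 2) K) 1 1 = 1 := by linear_combination h1
    have ha1 : (x : Matrix (Fin 2) (Fin 2) K) 0 0 = 1 := by rw [hd1, mul_one] at had; exact had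
    ext a b
    fin_cases a <;> fin_cases b <;> simp [ha1, hd1, hb, hc]
  · right
    have hd1 : (x : Matrix (Fin 2) (Fin 2) K) 1 1 = -1 := by linear_combination h1
    have ha1 : (x : Matrix (Fin 2) (Fin 2) K) 0 0 = -1 := by
      rw [hd1] at had
      linear_combination -had
    ext a b
    fin_cases a <;> fin_cases b <;> simp [ha1, hd1, hb, hc]

/-- an element of order divisible by `(q + 1)/2` -/
theorem dvd_orderOf_nonsplit [Fintype K] (hq : Fintype.card K % 4 = 3) (j : ℕ) (hj : 0 < j) :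
    ∃ g : Matrix.SpecialLinearGroup (Fin 2) K, (Fintype.card K + 1) / 2 ∣ orderOf (rho K j g) := by
  obtain ⟨g, hg⟩ := exists_sl2_orderOf_card_add_one (K := K) two_ne_zero'
  refine ⟨g, ?_⟩
  set n := orderOf (rho K j g) with hn
  have h1 : rho K j (g ^ n) = 1 := by rw [map_pow, hn, pow_orderOf_eq_one]
  have h2 := rho_ker j hj _ h1
  have h3 : g ^ (2 * n) = 1 := by
    apply Subtype.ext
    rw [mul_comm, pow_mul, pow_two, Matrix.SpecialLinearGroup.coe_mul, Matrix.SpecialLinearGroup.coe_one]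
    rcases h2 with h | h
    · rw [h, mul_one]
    · rw [h, neg_mul_neg, mul_one]
  have h4 : Fintype.card K + 1 ∣ 2 * n := hg ▸ orderOf_dvd_of_pow_eq_one h3
  obtain ⟨t, ht⟩ : ∃ t, Fintype.card K + 1 = 2 * t := ⟨(Fintype.card K + 1) / 2, by omega⟩
  have e : (Fintype.card K + 1) / 2 = t := by omega
  rw [e]
  rw [ht] at h4
  exact (Nat.mul_dvd_mul_iff_left (by norm_num)).mp h4

/-! ### The spectrum of `X` -/

theorem range_orderOf_X [Fintype K] (hK : ∀ x : K, x ^ 2 ≠ -1) (hq : Fintype.card K % 4 = 3) (j : ℕ) (hj : 0 < j) :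
    Set.range (orderOf : ↥(affSubgroup (Gam K j)) → ℕ) = OmX (Fintype.card K) := by
  have h3 : ∀ v : Fin j → Matrix (Fin 2) (Fin 2) K, 3 • v = 0 := by
    intro v
    have h := three_eq_zero (K := K)
    have : (3 : ℕ) • v = ((3 : ℕ) : K) • v := (Nat.cast_smul_eq_nsmul K 3 v).symm
    rw [this]
    have e : ((3 : ℕ) : K) = 0 := by exact_mod_cast h
    rw [e, zero_smul]
  apply range_orderOf_affSubgroup h3 (Gam K j) (OmX (Fintype.card K)) (OmX_div _) (Gam_cases hK hq j)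
  rintro n (h | h | h | h)
  · exact ⟨9, h, rho K j (uSL K), ⟨uSL K, Or.inl rfl⟩, _, orderOf_nine j hj⟩
  · refine ⟨6, h, negV K j * rho K j (uSL K), ⟨uSL K, Or.inr rfl⟩, 0, ?_⟩
    rw [orderOf_aff_zero, orderOf_six j hj]
  · obtain ⟨l, hl⟩ := dvd_orderOf_split hq j hj
    refine ⟨_, h.trans hl, negV K j * rho K j (dSL l), ⟨dSL l, Or.inr rfl⟩, 0, ?_⟩
    rw [orderOf_aff_zero]
  · obtain ⟨g, hg⟩ := dvd_orderOf_nonsplit hq j hj
    refine ⟨_, h.trans hg, rho K j g, ⟨g, Or.inl rfl⟩, 0, ?_⟩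
    rw [orderOf_aff_zero]

end Cfsg.Agent.Lib.Helper61.ReeX
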