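/-
helper61 (project REEX, for S3626): the set of element orders of a direct product of three groups, and the comparison of
the spectra of `R × R × R` and `R × R × X`.
-/
import Mathlib

set_option autoImplicit false

namespace Cfsg.Agent.Lib.Helper61.ReeX

/-- The element orders of a direct product of three groups. -/
theorem range_orderOf_prod3 {A B C : Type*} [Group A] [Group B] [Group C] :
    Set.range (orderOf : A × B × C → ℕ)
      = {n | ∃ a ∈ Set.range (orderOf : A → ℕ), ∃ b ∈ Set.range (orderOf : B → ℕ),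
          ∃ c ∈ Set.range (orderOf : C → ℕ), n = Nat.lcm a (Nat.lcm b c)} := by
  ext n
  constructor
  · rintro ⟨⟨x, y, z⟩, rfl⟩
    refine ⟨orderOf x, ⟨x, rfl⟩, orderOf y, ⟨y, rfl⟩, orderOf z, ⟨z, rfl⟩, ?_⟩
    rw [Prod.orderOf, Prod.orderOf]
  · rintro ⟨_, ⟨x, rfl⟩, _, ⟨y, rfl⟩, _, ⟨z, rfl⟩, rfl⟩
    refine ⟨(x, y, z), ?_⟩
    rw [Prod.orderOf, Prod.orderOf]

/-- The comparison of spectra: if the orders outside `Ω` divide `k₂` or `k₃`, the third factor may be replaced by a group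
with spectrum `Ω`. -/
theorem lcm_sets_eq (S Ω : Set ℕ) (k₂ k₃ : ℕ) (hΩS : Ω ⊆ S) (h1 : 1 ∈ Ω)
    (hS : ∀ d ∈ S, d ∈ Ω ∨ d ∣ k₂ ∨ d ∣ k₃) (h2 : ∀ d : ℕ, d ∣ k₂ → d ∈ S) (h3 : ∀ d : ℕ, d ∣ k₃ → d ∈ S) :
    {n | ∃ a ∈ S, ∃ b ∈ S, ∃ c ∈ Ω, n = Nat.lcm a (Nat.lcm b c)}
      = {n | ∃ a ∈ S, ∃ b ∈ S, ∃ c ∈ S, n = Nat.lcm a (Nat.lcm b c)} := by
  ext n
  constructor
  · rintro ⟨a, ha, b, hb, c, hc, rfl⟩
    exact ⟨a, ha, b, hb, c, hΩS hc, rfl⟩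
  · rintro ⟨a, ha, b, hb, c, hc, rfl⟩
    -- a reformulation: it suffices to find `a' b' ∈ S`, `c' ∈ Ω` with the same lcm
    rcases hS c hc with hcΩ | hck
    · exact ⟨a, ha, b, hb, c, hcΩ, rfl⟩
    rcases hS b hb with hbΩ | hbk
    · refine ⟨a, ha, c, hc, b, hbΩ, ?_⟩
      rw [Nat.lcm_comm b c]
    rcases hS a ha with haΩ | hak
    · refine ⟨b, hb, c, hc, a, haΩ, ?_⟩
      rw [Nat.lcm_comm a (Nat.lcm b c), Nat.lcm_assoc]
    -- all three divide `k₂` or `k₃`: two of them divide the same one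
    have merge : ∀ x y z : ℕ, z ∈ S → (∃ k, (k = k₂ ∨ k = k₃) ∧ x ∣ k ∧ y ∣ k) →
        ∃ a' ∈ S, ∃ b' ∈ S, ∃ c' ∈ Ω, Nat.lcm (Nat.lcm x y) z = Nat.lcm a' (Nat.lcm b' c') := by
      rintro x y z hz ⟨k, hk, hxk, hyk⟩
      have hxy : Nat.lcm x y ∣ k := Nat.lcm_dvd hxk hyk
      have hxyS : Nat.lcm x y ∈ S := by
        rcases hk with rfl | rfl
        · exact h2 _ hxy
        · exact h3 _ hxy
      refine ⟨Nat.lcm x y, hxyS, z, hz, 1, h1, ?_⟩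
      rw [Nat.lcm_one_right]
    have e1 : Nat.lcm a (Nat.lcm b c) = Nat.lcm (Nat.lcm a b) c := (Nat.lcm_assoc a b c).symm
    have e2 : Nat.lcm a (Nat.lcm b c) = Nat.lcm (Nat.lcm b c) a := Nat.lcm_comm _ _
    have e3 : Nat.lcm a (Nat.lcm b c) = Nat.lcm (Nat.lcm a c) b := by
      rw [Nat.lcm_comm b c, ← Nat.lcm_assoc]
    rcases hak with hak | hak <;> rcases hbk with hbk | hbk <;> rcases hck with hck | hck
    · rw [e1]; exact merge a b c hc ⟨k₂, Or.inl rfl, hak, hbk⟩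
    · rw [e1]; exact merge a b c hc ⟨k₂, Or.inl rfl, hak, hbk⟩
    · rw [e3]; exact merge a c b hb ⟨k₂, Or.inl rfl, hak, hck⟩
    · rw [e2]; exact merge b c a ha ⟨k₃, Or.inr rfl, hbk, hck⟩
    · rw [e2]; exact merge b c a ha ⟨k₂, Or.inl rfl, hbk, hck⟩
    · rw [e3]; exact merge a c b hb ⟨k₃, Or.inr rfl, hak, hck⟩
    · rw [e1]; exact merge a b c hc ⟨k₃, Or.inr rfl, hak, hbk⟩
    · rw [e1]; exact merge a b c hc ⟨k₃, Or.inr rfl, hak, hbk⟩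

end Cfsg.Agent.Lib.Helper61.ReeX
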